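import Cfsg.Agent.H683.CA.StarAut
import Cfsg.Agent.ClassicalGeometry.AutPSL.Main

/-!
# `SU ι (Ex F) ≃* SL ι F`
-/

set_option autoImplicit false
set_option linter.unusedSectionVars false
set_option linter.unusedVariables false

namespace Cfsg.Agent.H683.CA

open Matrix Cfsg.Agent.H308.CA
open Cfsg.Agent.ClassicalGeometry.AutPSL.Root (pr pr_surjective pr_eq_one_iff)
open Cfsg.Agent.ClassicalGeometry.AutPSL.Auto
open Cfsg.Agent.ClassicalGeometry.AutPSL.Main

variable {ι : Type} [Fintype ι] [DecidableEq ι] {F : Type} [Field F]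

def e1 : Ex F →+* F where
  toFun a := a.1
  map_one' := rfl
  map_mul' _ _ := rfl
  map_zero' := rfl
  map_add' _ _ := rfl

def e2 : Ex F →+* F where
  toFun a := a.2
  map_one' := rfl
  map_mul' _ _ := rfl
  map_zero' := rfl
  map_add' _ _ := rfl

theorem ex_ext {a b : Ex F} (h1 : e1 a = e1 b) (h2 : e2 a = e2 b) : a = b := Prod.ext h1 h2

theorem e1_star (a : Ex F) : e1 (star a) = e2 a := rfl

theorem e2_star (a : Ex F) : e2 (star a) = e1 a := rfl

def ex2 (a b : F) : Ex F := ((a, b) : F × F)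

@[simp] theorem e1_ex2 (a b : F) : e1 (ex2 a b) = a := rfl

@[simp] theorem e2_ex2 (a b : F) : e2 (ex2 a b) = b := rfl

def p1 : Matrix ι ι (Ex F) →+* Matrix ι ι F := e1.mapMatrix

def p2 : Matrix ι ι (Ex F) →+* Matrix ι ι F := e2.mapMatrix

theorem mat_ext {X Y : Matrix ι ι (Ex F)} (h1 : p1 X = p1 Y) (h2 : p2 X = p2 Y) : X = Y := by
  ext i j
  exact ex_ext (congrFun (congrFun h1 i) j) (congrFun (congrFun h2 i) j)

def mk2 (A B : Matrix ι ι F) : Matrix ι ι (Ex F) := Matrix.of fun i j => ex2 (A i j) (B i j)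

@[simp] theorem p1_mk2 (A B : Matrix ι ι F) : p1 (mk2 A B) = A := rfl

@[simp] theorem p2_mk2 (A B : Matrix ι ι F) : p2 (mk2 A B) = B := rfl

theorem p1_star (X : Matrix ι ι (Ex F)) : p1 (star X) = (p2 X)ᵀ := rfl

theorem p2_star (X : Matrix ι ι (Ex F)) : p2 (star X) = (p1 X)ᵀ := rfl

theorem star_mk2 (A B : Matrix ι ι F) : star (mk2 A B) = mk2 Bᵀ Aᵀ := rfl

theorem mk2_mul (A B A' B' : Matrix ι ι F) : mk2 A B * mk2 A' B' = mk2 (A * A') (B * B') :=
  mat_ext (by rw [map_mul]; rfl) (by rw [map_mul]; rfl)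

theorem mk2_add (A B A' B' : Matrix ι ι F) : mk2 A B + mk2 A' B' = mk2 (A + A') (B + B') :=
  mat_ext (by rw [map_add]; rfl) (by rw [map_add]; rfl)

theorem mk2_sub (A B A' B' : Matrix ι ι F) : mk2 A B - mk2 A' B' = mk2 (A - A') (B - B') :=
  mat_ext (by rw [map_sub]; rfl) (by rw [map_sub]; rfl)

theorem mk2_one : mk2 (1 : Matrix ι ι F) 1 = 1 :=
  mat_ext (by rw [map_one]; rfl) (by rw [map_one]; rfl)

theorem det_p1 (X : Matrix ι ι (Ex F)) : (p1 X).det = e1 X.det := (RingHom.map_det e1 X).symm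

theorem det_p2 (X : Matrix ι ι (Ex F)) : (p2 X).det = e2 X.det := (RingHom.map_det e2 X).symm

theorem p2_mt (u : SU ι (Ex F)) : (p2 (mt u))ᵀ * p1 (mt u) = 1 := by
  rw [← p1_star, ← map_mul, star_mt_mul, map_one]

/-- `SU ≅ SL` -/
def toSL : SU ι (Ex F) ≃* Matrix.SpecialLinearGroup ι F where
  toFun u := ⟨p1 (mt u), by rw [det_p1, mt_det, map_one]⟩
  invFun A := mkSU (mk2 A.1 (A⁻¹).1ᵀ) (by
      rw [star_mk2, transpose_transpose, mk2_mul, ← transpose_mul, ← Matrix.SpecialLinearGroup.coe_mul,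
        inv_mul_cancel, Matrix.SpecialLinearGroup.coe_one, transpose_one, mk2_one])
    (ex_ext (by rw [← det_p1, map_one]; exact A.2) (by
      rw [← det_p2, map_one, p2_mk2, det_transpose]; exact (A⁻¹).2))
  left_inv u := by
    apply mt_injective
    apply mat_ext
    · rfl
    · have h1 : (p2 (mt u))ᵀ * p1 (mt u) = 1 := p2_mt u
      have h2 : p1 (mt u) * (p2 (mt u))ᵀ = 1 := mul_eq_one_comm.1 h1
      set A : Matrix.SpecialLinearGroup ι F := ⟨p1 (mt u), by rw [det_p1, mt_det, map_one]⟩ with hA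
      change (A⁻¹).1ᵀ = p2 (mt u)
      have h3 : (A⁻¹).1 * p1 (mt u) = 1 := by
        change (A⁻¹).1 * A.1 = 1
        rw [← Matrix.SpecialLinearGroup.coe_mul, inv_mul_cancel, Matrix.SpecialLinearGroup.coe_one]
      have h4 : (A⁻¹).1 = (p2 (mt u))ᵀ := by
        calc (A⁻¹).1 = (A⁻¹).1 * (p1 (mt u) * (p2 (mt u))ᵀ) := by rw [h2, mul_one]
          _ = _ := by rw [← mul_assoc, h3, one_mul]
      rw [h4, transpose_transpose]
  right_inv A := Subtype.ext rfl
  map_mul' u v := by
    apply Subtype.ext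
    change p1 (mt (u * v)) = p1 (mt u) * p1 (mt v)
    rw [map_mul, map_mul]

theorem coe_toSL (u : SU ι (Ex F)) : (toSL u : Matrix ι ι F) = p1 (mt u) := rfl

theorem p2_mt_eq (u : SU ι (Ex F)) : p2 (mt u) = ((toSL u)⁻¹ : Matrix.SpecialLinearGroup ι F).1ᵀ := by
  have h1 : (p2 (mt u))ᵀ * p1 (mt u) = 1 := p2_mt u
  have h3 : (toSL u).1 * ((toSL u)⁻¹).1 = 1 := by
    rw [← Matrix.SpecialLinearGroup.coe_mul, mul_inv_cancel, Matrix.SpecialLinearGroup.coe_one]
  have h4 : (p2 (mt u))ᵀ = ((toSL u)⁻¹).1 := by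
    calc (p2 (mt u))ᵀ = (p2 (mt u))ᵀ * ((toSL u).1 * ((toSL u)⁻¹).1) := by rw [h3, mul_one]
      _ = ((p2 (mt u))ᵀ * p1 (mt u)) * ((toSL u)⁻¹).1 := by rw [mul_assoc]; rfl
      _ = _ := by rw [h1, one_mul]
  rw [← h4, transpose_transpose]

/-- the action of `SA` on `SL` -/
def actSL : SA ι (Ex F) →* MulAut (Matrix.SpecialLinearGroup ι F) :=
  (MulAut.congr toSL).toMonoidHom.comp act

theorem actSL_apply (θ : SA ι (Ex F)) (u : SU ι (Ex F)) :
    actSL θ (toSL u) = toSL (act θ u) := by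
  change toSL (act θ (toSL.symm (toSL u))) = _
  rw [MulEquiv.symm_apply_apply]

/-- the action of `SA` on `PSL` -/
def actPSL : SA ι (Ex F) →* MulAut (Matrix.ProjectiveSpecialLinearGroup ι F) :=
  lift.comp actSL

theorem actPSL_apply (θ : SA ι (Ex F)) (u : SU ι (Ex F)) :
    actPSL θ (pr (toSL u)) = pr (toSL (act θ u)) := by
  change lift (actSL θ) (pr (toSL u)) = _
  rw [lift_pr, actSL_apply]

/-- the swap -/
def swp : RingAut (Ex F) :=
  { toFun := fun _a => star _a
    invFun := fun _a => star _a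
    left_inv := fun _ => rfl
    right_inv := fun _ => rfl
    map_mul' := fun _ _ => rfl
    map_add' := fun _ _ => rfl }

/-- a field automorphism -/
def fex (σ : F ≃+* F) : RingAut (Ex F) :=
  { toFun := fun a => ex2 (σ a.1) (σ a.2)
    invFun := fun a => ex2 (σ.symm a.1) (σ.symm a.2)
    left_inv := fun a => ex_ext (σ.symm_apply_apply _) (σ.symm_apply_apply _)
    right_inv := fun a => ex_ext (σ.apply_symm_apply _) (σ.apply_symm_apply _)
    map_mul' := fun a b => ex_ext (map_mul σ _ _) (map_mul σ _ _)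
    map_add' := fun a b => ex_ext (map_add σ _ _) (map_add σ _ _) }

theorem actSL_inn (C : GL ι F) :
    ∃ θ : SA ι (Ex F), actSL θ = cj C := by
  have h1 : star (mk2 (C : Matrix ι ι F) (((C⁻¹ : GL ι F) : Matrix ι ι F)ᵀ)) *
      mk2 (C : Matrix ι ι F) (((C⁻¹ : GL ι F) : Matrix ι ι F)ᵀ) = 1 := by
    rw [star_mk2, transpose_transpose, mk2_mul, ← transpose_mul, ← Units.val_mul, inv_mul_cancel,
      Units.val_one, transpose_one, mk2_one]
  refine ⟨⟨inn _ h1, inn_mem_SA _ h1⟩, ?_⟩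
  apply MulEquiv.ext
  intro g
  obtain ⟨u, rfl⟩ := toSL.surjective g
  rw [actSL_apply]
  apply Subtype.ext
  rw [coe_toSL, mt_act, coe_cj]
  change p1 (inn _ h1 (mt u)) = _
  rw [inn_apply, star_mk2, map_mul, map_mul, p1_mk2, p1_mk2, transpose_transpose]
  rfl

theorem actSL_fld (σ : F ≃+* F) :
    ∃ θ : SA ι (Ex F), actSL θ = fld σ := by
  refine ⟨⟨_, map_mem_SA (fex σ) (fun a => rfl)⟩, ?_⟩
  apply MulEquiv.ext
  intro g
  obtain ⟨u, rfl⟩ := toSL.surjective g
  rw [actSL_apply]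
  apply Subtype.ext
  ext i j
  rfl

theorem actSL_itr :
    ∃ θ : SA ι (Ex F), actSL θ = itr := by
  refine ⟨⟨_, map_mem_SA swp (fun a => rfl)⟩, ?_⟩
  apply MulEquiv.ext
  intro g
  obtain ⟨u, rfl⟩ := toSL.surjective g
  rw [actSL_apply]
  apply Subtype.ext
  rw [coe_itr, ← p2_mt_eq]
  rfl

theorem actPSL_surjective [Finite F] {n : ℕ} (hn : 3 ≤ n) :
    Function.Surjective (actPSL : SA (Fin n) (Ex F) →* _) := by
  intro α
  obtain ⟨p, hp⟩ := CharP.exists F
  have := Fintype.ofFinite F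
  have hpp : Fact p.Prime := by
    rcases CharP.char_is_prime_or_zero F p with h | h
    · exact ⟨h⟩
    · exfalso
      have : CharP F 0 := h ▸ hp
      have := CharP.charP_to_charZero F
      exact not_finite F
  rcases surj_three p hn α with ⟨A, σ, rfl⟩ | ⟨A, σ, rfl⟩
  · obtain ⟨θ1, h1⟩ := actSL_inn A
    obtain ⟨θ2, h2⟩ := actSL_fld (ι := Fin n) σ
    refine ⟨θ1 * θ2, ?_⟩
    change lift (actSL (θ1 * θ2)) = _
    rw [map_mul actSL, h1, h2]
  · obtain ⟨θ1, h1⟩ := actSL_inn A
    obtain ⟨θ2, h2⟩ := actSL_fld (ι := Fin n) σ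
    obtain ⟨θ3, h3⟩ := actSL_itr (ι := Fin n) (F := F)
    refine ⟨θ1 * θ2 * θ3, ?_⟩
    change lift (actSL (θ1 * θ2 * θ3)) = _
    rw [map_mul actSL, map_mul actSL, h1, h2, h3]

/-- an automorphism of `SL` that is trivial on `PSL` is trivial -/
theorem lift_injective (hι : 3 ≤ Fintype.card ι) :
    Function.Injective (lift : MulAut (Matrix.SpecialLinearGroup ι F) →* _) := by
  rw [injective_iff_map_eq_one]
  intro α hα
  have hz : ∀ x, x⁻¹ * α x ∈ Subgroup.center (Matrix.SpecialLinearGroup ι F) := by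
    intro x
    rw [← pr_eq_one_iff, map_mul, ← lift_pr, hα, map_inv, MulAut.one_apply, inv_mul_cancel]
  let χ : Matrix.SpecialLinearGroup ι F →* Subgroup.center (Matrix.SpecialLinearGroup ι F) :=
    { toFun := fun x => ⟨x⁻¹ * α x, hz x⟩
      map_one' := by
        apply Subtype.ext
        change (1 : Matrix.SpecialLinearGroup ι F)⁻¹ * α 1 = 1
        rw [map_one, inv_one, one_mul]
      map_mul' := fun x y => by
        apply Subtype.ext
        change (x * y)⁻¹ * α (x * y) = (x⁻¹ * α x) * (y⁻¹ * α y)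
        have h1 : y⁻¹ * (x⁻¹ * α x) = (x⁻¹ * α x) * y⁻¹ := Subgroup.mem_center_iff.1 (hz x) y⁻¹
        rw [map_mul, _root_.mul_inv_rev, ← mul_assoc (x⁻¹ * α x), ← h1]
        simp only [mul_assoc] }
  have hχ : ∀ x, χ x = 1 := by
    intro x
    have h1 : commutator (Matrix.SpecialLinearGroup ι F) ≤ χ.ker := by
      rw [commutator_def, Subgroup.commutator_le]
      intro a _ b _
      rw [MonoidHom.mem_ker, map_commutatorElement]
      exact commutatorElement_eq_one_iff_mul_comm.2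
        (Subtype.ext (Subgroup.mem_center_iff.1 (χ b).2 (χ a).1))
    rw [Cfsg.Agent.LieClassical.SLGen.commutator_eq_top hι] at h1
    exact h1 (Subgroup.mem_top x)
  apply MulEquiv.ext
  intro x
  have := congrArg Subtype.val (hχ x)
  change x⁻¹ * α x = 1 at this
  exact (inv_mul_eq_one.1 this).symm

open Cfsg.Agent.ClassicalGeometry.AutPSL.Root in
/-- the transvections -/
theorem exists_trv {i j : ι} (hij : i ≠ j) (a : F) :
    ∃ u : SU ι (Ex F), mt u = 1 + mk2 (single i j a) (-single j i a) := by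
  refine ⟨toSL.symm (Matrix.SpecialLinearGroup.transvection hij a), ?_⟩
  change mk2 (Matrix.SpecialLinearGroup.transvection hij a).1
    ((Matrix.SpecialLinearGroup.transvection hij a)⁻¹).1ᵀ = _
  rw [Matrix.SpecialLinearGroup.transvection_inv, ← mk2_one, mk2_add]
  congr 1
  change ((1 : Matrix ι ι F) + single i j (-a))ᵀ = _
  rw [transpose_add, transpose_one, transpose_single]
  congr 1
  ext r s
  simp only [single_apply, Matrix.neg_apply]
  split_ifs <;> simp

theorem actSL_injective (hι : 3 ≤ Fintype.card ι) :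
    Function.Injective (actSL : SA ι (Ex F) →* _) := by
  rw [injective_iff_map_eq_one]
  intro θ hθ
  have hu : ∀ u : SU ι (Ex F), θ.1 (mt u) = mt u := by
    intro u
    rw [← mt_act]
    congr 1
    apply toSL.injective
    rw [← actSL_apply, hθ]
    rfl
  apply Subtype.ext
  apply RingEquiv.ext
  let R : Subring (Matrix ι ι (Ex F)) := RingHom.eqLocus (θ.1 : Matrix ι ι (Ex F) →+* _) (RingHom.id _)
  have hR : ∀ X, X ∈ R ↔ θ.1 X = X := fun X => Iff.rfl
  have h1 : ∀ (i j : ι) (_ : i ≠ j) (a : F), mk2 (single i j a) (-single j i a) ∈ R := by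
    intro i j hij a
    obtain ⟨u, hu'⟩ := exists_trv hij a
    have h2 : mt u ∈ R := (hR _).2 (hu u)
    have h3 := R.sub_mem h2 R.one_mem
    rwa [hu', add_sub_cancel_left] at h3
  have h2 : ∀ (i j : ι) (_ : i ≠ j) (a : F), mk2 (single i j a) 0 ∈ R := by
    intro i j hij a
    obtain ⟨k, hk⟩ : ∃ k : ι, k ∉ ({i, j} : Finset ι) := by
      by_contra hcon
      push Not at hcon
      have h1 : (Finset.univ : Finset ι) ⊆ {i, j} := fun x _ => hcon x
      have h2 := Finset.card_le_card h1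
      have h3 := Finset.card_le_two (a := i) (b := j)
      rw [Finset.card_univ] at h2
      omega
    simp only [Finset.mem_insert, Finset.mem_singleton, not_or] at hk
    have h3 := R.mul_mem (h1 i k (Ne.symm hk.1) a) (h1 k j hk.2 1)
    rw [mk2_mul, single_mul_single_same, mul_one, neg_mul_neg,
      single_mul_single_of_ne _ _ _ _ hij] at h3
    exact h3
  have h3 : ∀ (i j : ι) (_ : i ≠ j) (a : F), mk2 0 (single j i a) ∈ R := by
    intro i j hij a
    have h4 := R.sub_mem (h2 i j hij a) (h1 i j hij a)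
    rwa [mk2_sub, sub_self, zero_sub, neg_neg] at h4
  have hne : ∀ i : ι, ∃ j, i ≠ j := by
    intro i
    have : Nontrivial ι := Fintype.one_lt_card_iff_nontrivial.mp (by omega)
    obtain ⟨j, hj⟩ := exists_ne i
    exact ⟨j, hj.symm⟩
  have h4 : ∀ (i j : ι) (a : F), mk2 (single i j a) 0 ∈ R := by
    intro i j a
    by_cases hij : i = j
    · subst hij
      obtain ⟨k, hk⟩ := hne i
      have h5 := R.mul_mem (h2 i k hk a) (h2 k i hk.symm 1)
      rwa [mk2_mul, single_mul_single_same, mul_one, mul_zero] at h5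
    · exact h2 i j hij a
  have h5 : ∀ (i j : ι) (a : F), mk2 0 (single i j a) ∈ R := by
    intro i j a
    by_cases hij : i = j
    · subst hij
      obtain ⟨k, hk⟩ := hne i
      have h5 := R.mul_mem (h3 k i hk.symm a) (h3 i k hk 1)
      rwa [mk2_mul, single_mul_single_same, mul_one, mul_zero] at h5
    · exact h3 j i (Ne.symm hij) a
  have hz : mk2 (0 : Matrix ι ι F) 0 = 0 :=
    mat_ext (by rw [map_zero]; rfl) (by rw [map_zero]; rfl)
  have h6 : ∀ A : Matrix ι ι F, mk2 A 0 ∈ R := by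
    intro A
    induction A using Matrix.induction_on' with
    | h_zero => rw [hz]; exact R.zero_mem
    | h_add A B hA hB =>
      have := R.add_mem hA hB
      rwa [mk2_add, add_zero] at this
    | h_std_basis i j a => exact h4 i j a
  have h7 : ∀ A : Matrix ι ι F, mk2 0 A ∈ R := by
    intro A
    induction A using Matrix.induction_on' with
    | h_zero => rw [hz]; exact R.zero_mem
    | h_add A B hA hB =>
      have := R.add_mem hA hB
      rwa [mk2_add, add_zero] at this
    | h_std_basis i j a => exact h5 i j a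
  intro X
  have h8 : X = mk2 (p1 X) 0 + mk2 0 (p2 X) := by
    rw [mk2_add, add_zero, zero_add]
    exact mat_ext rfl rfl
  rw [h8]
  exact (hR _).1 (R.add_mem (h6 _) (h7 _))

theorem actPSL_injective (hι : 3 ≤ Fintype.card ι) :
    Function.Injective (actPSL : SA ι (Ex F) →* _) :=
  (lift_injective hι).comp (actSL_injective hι)

end Cfsg.Agent.H683.CA
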