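import Cfsg.Agent.H683.CA.ExMat

/-!
# S3852, [CA11]: the bridge for `PSL_n(F)`, `n ≥ 3`
-/

set_option autoImplicit false

namespace Cfsg.Agent.H683.CA

open Matrix Cfsg.Agent.H308.CA
open Cfsg.Agent.ClassicalGeometry.AutPSL.Root (pr pr_surjective pr_eq_one_iff)

universe u

theorem pr_toSL_eq_one_iff {n : ℕ} {F : Type} [Field F] (u : SU (Fin n) (Ex F)) :
    pr (toSL u) = 1 ↔ Sc (mt u) 1 := by
  rw [pr_eq_one_iff, Matrix.SpecialLinearGroup.mem_center_iff]
  constructor
  · rintro ⟨r, hr, h⟩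
    rcases Nat.eq_zero_or_pos n with hn | hn
    · subst hn
      exact ⟨1, by rw [star_one, mul_one], Subsingleton.elim _ _⟩
    rw [coe_toSL] at h
    have hr0 : r ≠ 0 := by
      rintro rfl
      rw [Fintype.card_fin, zero_pow (by omega)] at hr
      exact zero_ne_one hr
    have h2 : (p2 (mt u))ᵀ * p1 (mt u) = 1 := p2_mt u
    have h3 : p2 (mt u) = scalar (Fin n) r⁻¹ := by
      have h4 : p1 (mt u) * scalar (Fin n) r⁻¹ = 1 := by
        rw [← h, ← map_mul, mul_inv_cancel₀ hr0, map_one]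
      have h5 : (p2 (mt u))ᵀ = scalar (Fin n) r⁻¹ := by
        calc (p2 (mt u))ᵀ = (p2 (mt u))ᵀ * (p1 (mt u) * scalar (Fin n) r⁻¹) := by rw [h4, mul_one]
          _ = _ := by rw [← mul_assoc, h2, one_mul]
      have h6 := congrArg Matrix.transpose h5
      rw [transpose_transpose] at h6
      rw [h6, scalar_apply, diagonal_transpose]
    refine ⟨ex2 r r⁻¹, ex_ext ?_ ?_, mat_ext ?_ ?_⟩
    · change r⁻¹ * r = 1
      exact inv_mul_cancel₀ hr0
    · change r * r⁻¹ = 1
      exact mul_inv_cancel₀ hr0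
    · rw [← h]
      ext i j
      change scalar (Fin n) r i j = e1 (ex2 r r⁻¹ * (1 : Matrix (Fin n) (Fin n) (Ex F)) i j)
      rw [map_mul, e1_ex2, scalar_apply, diagonal_apply, one_apply]
      split_ifs <;> simp
    · rw [h3]
      ext i j
      change scalar (Fin n) r⁻¹ i j = e2 (ex2 r r⁻¹ * (1 : Matrix (Fin n) (Fin n) (Ex F)) i j)
      rw [map_mul, e2_ex2, scalar_apply, diagonal_apply, one_apply]
      split_ifs <;> simp
  · rintro ⟨c, hc, h⟩
    have h1 : scalar (Fin n) (e1 c) = p1 (mt u) := by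
      rw [h]
      ext i j
      change scalar (Fin n) (e1 c) i j = e1 (c * (1 : Matrix (Fin n) (Fin n) (Ex F)) i j)
      rw [map_mul, scalar_apply, diagonal_apply, one_apply]
      split_ifs <;> simp
    refine ⟨e1 c, ?_, h1⟩
    have h2 : (p1 (mt u)).det = 1 := by rw [det_p1, mt_det, map_one]
    rw [← h1, scalar_apply, det_diagonal, Finset.prod_const, Finset.card_univ] at h2
    exact h2

/-- [CA11] BRIDGE-lin -/
theorem bridge_lin {G : Type u} [Group G] [Finite G] (S : Subgroup G) [S.Normal]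
    (_hc : Subgroup.centralizer (S : Set G) = ⊥) (F : Type) [Field F] [Finite F] (n : ℕ) (hn : 3 ≤ n)
    (e : S ≃* Matrix.ProjectiveSpecialLinearGroup (Fin n) F) :
    ∃ T : TA G (Fin n) (Ex F), T.j.range = S ∧ ∀ u, T.j u = 1 ↔ Sc (mt u) 1 := by
  have hcard : 3 ≤ Fintype.card (Fin n) := by rw [Fintype.card_fin]; exact hn
  let Ψ : SA (Fin n) (Ex F) ≃* MulAut (Matrix.ProjectiveSpecialLinearGroup (Fin n) F) :=
    MulEquiv.ofBijective actPSL ⟨actPSL_injective hcard, actPSL_surjective hn⟩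
  have hΨ : ∀ θ, Ψ θ = actPSL θ := fun θ => rfl
  let κ : G →* MulAut (Matrix.ProjectiveSpecialLinearGroup (Fin n) F) :=
    (MulAut.congr e).toMonoidHom.comp MulAut.conjNormal
  have hκ : ∀ (g : G) (x : Matrix.ProjectiveSpecialLinearGroup (Fin n) F),
      κ g x = e (MulAut.conjNormal g (e.symm x)) := fun g x => rfl
  let ρ0 : G →* SA (Fin n) (Ex F) := Ψ.symm.toMonoidHom.comp κ
  have hρ0 : ∀ g, actPSL (ρ0 g) = κ g := by
    intro g
    rw [← hΨ]
    exact Ψ.apply_symm_apply _
  let j : SU (Fin n) (Ex F) →* G := S.subtype.comp (e.symm.toMonoidHom.comp (pr.comp toSL.toMonoidHom))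
  have hj : ∀ u, j u = (e.symm (pr (toSL u)) : G) := fun u => rfl
  have hT : ∀ (g : G) (u v : SU (Fin n) (Ex F)), mt v = (ρ0 g).1 (mt u) → g * j u * g⁻¹ = j v := by
    intro g u v h
    have h1 : act (ρ0 g) u = v := mt_injective (by rw [mt_act, h])
    have h2 := actPSL_apply (ρ0 g) u
    rw [hρ0, hκ, h1] at h2
    have h3 : MulAut.conjNormal g (e.symm (pr (toSL u))) = e.symm (pr (toSL v)) := by
      apply e.injective
      rw [h2, MulEquiv.apply_symm_apply]
    rw [hj, hj, ← h3, MulAut.conjNormal_apply]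
  refine ⟨⟨(SA (Fin n) (Ex F)).subtype.comp ρ0, fun g a => (ρ0 g).2.1 a, j, ?_, hT⟩, ?_, ?_⟩
  · intro u a
    have h1 : ρ0 (j u) = ⟨inn (mt u) (star_mt_mul u), inn_mem_SA _ _⟩ := by
      apply actPSL_injective hcard
      rw [hρ0]
      apply MulEquiv.ext
      intro x
      obtain ⟨x, rfl⟩ := pr_surjective x
      obtain ⟨v, rfl⟩ := toSL.surjective x
      rw [hκ, actPSL_apply]
      have h2 : act ⟨inn (mt u) (star_mt_mul u), inn_mem_SA _ _⟩ v = u * v * u⁻¹ := by
        apply mt_injective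
        rw [mt_act, map_mul, map_mul, mt_inv]
        rfl
      rw [h2, map_mul, map_mul, map_mul, map_mul, map_inv, map_inv]
      have h3 : MulAut.conjNormal (j u) (e.symm (pr (toSL v))) =
          e.symm (pr (toSL u)) * e.symm (pr (toSL v)) * (e.symm (pr (toSL u)))⁻¹ := by
        apply Subtype.ext
        rw [MulAut.conjNormal_apply]
        rfl
      rw [h3, map_mul, map_mul, map_inv, MulEquiv.apply_symm_apply, MulEquiv.apply_symm_apply]
    change (ρ0 (j u)).1 a = _
    rw [h1]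
    rfl
  · change j.range = S
    ext g
    constructor
    · rintro ⟨u, rfl⟩
      exact (e.symm (pr (toSL u))).2
    · intro hg
      obtain ⟨x, hx⟩ := pr_surjective (e ⟨g, hg⟩)
      obtain ⟨u, rfl⟩ := toSL.surjective x
      refine ⟨u, ?_⟩
      rw [hj, hx, MulEquiv.symm_apply_apply]
  · intro u
    change j u = 1 ↔ _
    rw [← pr_toSL_eq_one_iff, hj]
    constructor
    · intro h
      have h1 : e.symm (pr (toSL u)) = 1 := Subtype.ext h
      rw [← e.apply_symm_apply (pr (toSL u)), h1, map_one]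
    · intro h
      rw [h, map_one, Subgroup.coe_one]

end Cfsg.Agent.H683.CA
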